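import Groth.Agent.ThickAff.Split
import Mathlib.AlgebraicGeometry.Morphisms.ClosedImmersion
import Mathlib.AlgebraicGeometry.Morphisms.Affine

/-!
A scheme receiving a surjective closed immersion from an affine scheme is affine.
-/

set_option autoImplicit false

universe u

open AlgebraicGeometry CategoryTheory TopologicalSpace Opposite

namespace Groth.Agent.ThickAff

variable {X X' : Scheme.{u}} (t : X ⟶ X')

theorem isNilpotent_of_app_eq_zero [Surjective t] {W : X'.Opens} (hW : IsAffineOpen W) {z : Γ(X', W)}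
    (hz : t.app W z = 0) : IsNilpotent z := by
  rw [Scheme.isNilpotent_iff_basicOpen_eq_bot_of_isCompact hW.isCompact]
  refine Opens.ext (Set.eq_empty_iff_forall_notMem.2 fun y hy => ?_)
  obtain ⟨x, rfl⟩ := t.surjective y
  have hx : x ∈ t ⁻¹ᵁ X'.basicOpen z := hy
  rw [Scheme.preimage_basicOpen, hz, Scheme.basicOpen_zero] at hx
  exact hx

theorem preimage_inj [Surjective t] {U V : X'.Opens} (h : t ⁻¹ᵁ U = t ⁻¹ᵁ V) : U = V :=
  Opens.ext (t.surjective.preimage_injective (congrArg (fun W : X.Opens => (W : Set X)) h))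

theorem app_res {U W : X'.Opens} (h : W ≤ U) (r : Γ(X', U)) :
    t.app W (X'.presheaf.map (homOfLE h).op r) = X.presheaf.map (homOfLE (t.preimage_mono h)).op (t.app U r) :=
  ConcreteCategory.congr_hom (t.naturality (homOfLE h).op) r

/-- powers times an element of the kernel on a basic open come from the kernel -/
theorem exists_pow_mul [IsClosedImmersion t] {U W : X'.Opens} (hU : IsAffineOpen U) (h : W ≤ U) (C : Γ(X', U))
    (e : W = X'.basicOpen C) (z : Γ(X', W)) (hz : t.app W z = 0) :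
    ∃ m u, t.app U u = 0 ∧
      (X'.presheaf.map (homOfLE h).op C) ^ m * z = X'.presheaf.map (homOfLE h).op u := by
  letI := (X'.presheaf.map (homOfLE h).op).hom.toAlgebra
  haveI : IsLocalization.Away C Γ(X', W) := hU.isLocalization_of_eq_basicOpen _ (homOfLE h) e
  obtain ⟨⟨u, ⟨_, k, rfl⟩⟩, hu⟩ := IsLocalization.surj (Submonoid.powers C) z
  replace hu : z * (X'.presheaf.map (homOfLE h).op C) ^ k = X'.presheaf.map (homOfLE h).op u := by
    rw [← map_pow]; exact hu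
  have e' : t ⁻¹ᵁ W = X.basicOpen (t.app U C) := (congrArg (t ⁻¹ᵁ ·) e).trans (Scheme.preimage_basicOpen t C)
  have hUX : IsAffineOpen (t ⁻¹ᵁ U) := hU.preimage t
  letI := (X.presheaf.map (homOfLE (t.preimage_mono h)).op).hom.toAlgebra
  haveI : IsLocalization.Away (t.app U C) Γ(X, t ⁻¹ᵁ W) :=
    hUX.isLocalization_of_eq_basicOpen _ (homOfLE (t.preimage_mono h)) e'
  have h0 : algebraMap Γ(X, t ⁻¹ᵁ U) Γ(X, t ⁻¹ᵁ W) (t.app U u) = 0 := by
    show X.presheaf.map (homOfLE (t.preimage_mono h)).op (t.app U u) = 0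
    rw [← app_res t h, ← hu, map_mul, hz, zero_mul]
  obtain ⟨⟨_, l, rfl⟩, hl⟩ := (IsLocalization.map_eq_zero_iff (Submonoid.powers (t.app U C)) _ _).1 h0
  refine ⟨l + k, C ^ l * u, by rw [map_mul, map_pow]; exact hl, ?_⟩
  rw [map_mul, map_pow, ← hu]
  ring

theorem isAffineOpen_of_eq {U V : X'.Opens} (h : IsAffineOpen U) (e : U = V) : IsAffineOpen V := e ▸ h

/-- two basic opens with sum `1` -/
theorem isAffine_of_two [IsClosedImmersion t] [Surjective t] [IsAffine X] (b c : Γ(X, ⊤)) (hbc : b + c = 1)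
    (U V : X'.Opens) (hU : IsAffineOpen U) (hV : IsAffineOpen V) (eU : t ⁻¹ᵁ U = X.basicOpen b)
    (eV : t ⁻¹ᵁ V = X.basicOpen c) : IsAffine X' := by
  let rU := fun (U : X'.Opens) (a : Γ(X, ⊤)) => X.presheaf.map (homOfLE (le_top : t ⁻¹ᵁ U ≤ ⊤)).op a
  obtain ⟨BU, hBU⟩ := t.app_surjective U hU (rU U b)
  obtain ⟨BV, hBV⟩ := t.app_surjective V hV (rU V b)
  let W := U ⊓ V
  have hres : ∀ {A B : X'.Opens} (h : B ≤ A) (a : Γ(X, ⊤)),
      X.presheaf.map (homOfLE (t.preimage_mono h)).op (rU A a) = rU B a := fun h a => by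
    simp only [rU]
    rw [← ConcreteCategory.comp_apply, ← X.presheaf.map_comp]
    rfl
  have hone : ∀ A : X'.Opens, rU A c = 1 - rU A b := fun A => by
    simp only [rU]
    rw [eq_sub_iff_add_eq, ← map_add, add_comm, hbc, map_one]
  have hWU : W = X'.basicOpen (1 - BU) := preimage_inj t (by
    rw [Scheme.preimage_basicOpen, map_sub, map_one, hBU, ← hone, Scheme.basicOpen_res]
    show t ⁻¹ᵁ U ⊓ t ⁻¹ᵁ V = _
    rw [eV])
  have hWV : W = X'.basicOpen BV := preimage_inj t (by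
    rw [Scheme.preimage_basicOpen, hBV, Scheme.basicOpen_res]
    show t ⁻¹ᵁ U ⊓ t ⁻¹ᵁ V = _
    rw [eU, inf_comm])
  have hW : IsAffineOpen W := isAffineOpen_of_eq (hU.basicOpen (1 - BU)) hWU.symm
  let φ : Γ(X', U) →+* Γ(X', W) := (X'.presheaf.map (homOfLE (inf_le_left : W ≤ U)).op).hom
  let ψ : Γ(X', V) →+* Γ(X', W) := (X'.presheaf.map (homOfLE (inf_le_right : W ≤ V)).op).hom
  have hd0 : t.app W (φ BU - ψ BV) = 0 := by
    rw [map_sub]
    show t.app W (X'.presheaf.map (homOfLE (inf_le_left : W ≤ U)).op BU) - t.app W (X'.presheaf.map (homOfLE (inf_le_right : W ≤ V)).op BV) = 0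
    rw [app_res t inf_le_left, app_res t inf_le_right, hBU, hBV, hres inf_le_left, hres inf_le_right, sub_self]
  obtain ⟨u, hu, v, hv, huv⟩ := exists_split φ ψ (RingHom.ker (t.app U).hom) (RingHom.ker (t.app V).hom)
    (RingHom.ker (t.app W).hom) BU BV (isNilpotent_of_app_eq_zero t hW hd0)
    (fun z hz => exists_pow_mul t hU inf_le_left (1 - BU) hWU z hz)
    (fun z hz => exists_pow_mul t hV inf_le_right BV hWV z hz) _ hd0
  let fU : Γ(X', U) := BU - u
  let fV : Γ(X', V) := BV + v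
  have hfU : t.app U fU = rU U b := by
    show t.app U (BU - u) = _
    rw [map_sub, hBU, show t.app U u = 0 from hu, sub_zero]
  have hfV : t.app V fV = rU V b := by
    show t.app V (BV + v) = _
    rw [map_add, hBV, show t.app V v = 0 from hv, add_zero]
  have hagree : φ fU = ψ fV := by
    show φ (BU - u) = ψ (BV + v)
    rw [map_sub, map_add]
    rw [sub_eq_iff_eq_add] at huv
    rw [huv]
    ring
  let 𝒰 : Bool → X'.Opens := fun i => match i with
    | true => U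
    | false => V
  let sf : ∀ i, Γ(X', 𝒰 i) := fun i => match i with
    | true => fU
    | false => fV
  have hcompat : TopCat.Presheaf.IsCompatible X'.sheaf.1 𝒰 sf := by
    have hag : ∀ {A B : X'.Opens} (h₁ : B ≤ U) (h₂ : B ≤ V),
        X'.presheaf.map (homOfLE h₁).op fU = X'.presheaf.map (homOfLE h₂).op fV := fun {A B} h₁ h₂ => by
      have := congrArg (X'.presheaf.map (homOfLE (le_inf h₁ h₂ : B ≤ W)).op) hagree
      simp only [φ, ψ] at this
      rw [← ConcreteCategory.comp_apply, ← X'.presheaf.map_comp, ← ConcreteCategory.comp_apply,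
        ← X'.presheaf.map_comp] at this
      exact this
    rintro (_ | _) (_ | _)
    · rfl
    · exact (hag (A := ⊤) inf_le_right inf_le_left).symm
    · exact hag (A := ⊤) inf_le_left inf_le_right
    · rfl
  have hcover : (⊤ : X'.Opens) ≤ U ⊔ V := by
    intro y _
    obtain ⟨x, rfl⟩ := t.surjective y
    show x ∈ t ⁻¹ᵁ (U ⊔ V)
    rw [Scheme.Hom.preimage_sup, eU, eV]
    have h := X.basicOpen_add_le b c
    rw [hbc, Scheme.basicOpen_of_isUnit X isUnit_one] at h
    exact h trivial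
  obtain ⟨(f : Γ(X', ⊤)), hf, -⟩ := X'.sheaf.existsUnique_gluing' 𝒰 ⊤ (fun i => homOfLE le_top)
    (hcover.trans (sup_le (le_iSup 𝒰 true) (le_iSup 𝒰 false))) sf hcompat
  have hfU' : X'.presheaf.map (homOfLE (le_top : U ≤ ⊤)).op f = fU := hf true
  have hfV' : X'.presheaf.map (homOfLE (le_top : V ≤ ⊤)).op f = fV := hf false
  have key : ∀ (g : Γ(X', ⊤)) (a : Γ(X, ⊤)), t.app U (X'.presheaf.map (homOfLE (le_top : U ≤ ⊤)).op g) = rU U a →
      t.app V (X'.presheaf.map (homOfLE (le_top : V ≤ ⊤)).op g) = rU V a →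
      t ⁻¹ᵁ X'.basicOpen g = X.basicOpen a := by
    intro g a hgU hgV
    have e : ∀ A : X'.Opens, t.app A (X'.presheaf.map (homOfLE (le_top : A ≤ ⊤)).op g) = rU A a →
        t ⁻¹ᵁ A ⊓ t ⁻¹ᵁ X'.basicOpen g = t ⁻¹ᵁ A ⊓ X.basicOpen a := fun A hA => by
      rw [← Scheme.basicOpen_res _ a (homOfLE (le_top : t ⁻¹ᵁ A ≤ ⊤)).op]
      show _ = X.basicOpen (rU A a)
      rw [← hA, ← Scheme.preimage_basicOpen, Scheme.basicOpen_res]
      rfl
    have hcov : (⊤ : X.Opens) ≤ t ⁻¹ᵁ U ⊔ t ⁻¹ᵁ V := t.preimage_mono hcover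
    rw [← inf_eq_right.2 (le_top.trans hcov : t ⁻¹ᵁ X'.basicOpen g ≤ _),
      ← inf_eq_right.2 (le_top.trans hcov : X.basicOpen a ≤ _), inf_sup_right, inf_sup_right, e U hgU, e V hgV]
  refine isAffine_of_isAffineOpen_basicOpen {(f : Γ(X', ⊤)), 1 - (f : Γ(X', ⊤))} ?_ ?_
  · rw [Ideal.eq_top_iff_one]
    have h3 := add_mem (Ideal.subset_span (Set.mem_insert (f : Γ(X', ⊤)) {1 - f}))
      (Ideal.subset_span (Set.mem_insert_of_mem (f : Γ(X', ⊤)) (Set.mem_singleton (1 - (f : Γ(X', ⊤))))))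
    rwa [add_sub_cancel] at h3
  · rintro g (hg | hg) <;> subst g
    · exact isAffineOpen_of_eq hU (preimage_inj t (eU.trans (key f b (by rw [hfU', hfU]) (by rw [hfV', hfV])).symm))
    · refine isAffineOpen_of_eq hV (preimage_inj t (eV.trans (key (1 - f) c ?_ ?_).symm))
      · rw [map_sub, map_one, map_sub, map_one, hfU', hfU, hone]
      · rw [map_sub, map_one, map_sub, map_one, hfV', hfV, hone]

/-- a scheme receiving a surjective closed immersion from an affine scheme is affine -/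
theorem isAffine_of_surjective [IsClosedImmersion t] [Surjective t] [IsAffine X] : IsAffine X' := by
  classical
  let O : Γ(X, ⊤) → X'.Opens := fun a => ⟨(t '' (X.basicOpen a : Set X)ᶜ)ᶜ,
    (t.isClosedEmbedding.isClosedMap _ (X.basicOpen a).isOpen.isClosed_compl).isOpen_compl⟩
  have hO : ∀ a, t ⁻¹ᵁ O a = X.basicOpen a := fun a => Opens.ext (by
    show t ⁻¹' (t '' (X.basicOpen a : Set X)ᶜ)ᶜ = _
    rw [Set.preimage_compl, t.isClosedEmbedding.injective.preimage_image, compl_compl])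
  have hSmul : ∀ a r, IsAffineOpen (O a) → IsAffineOpen (O (r * a)) := by
    intro a r ha
    obtain ⟨g, hg⟩ := t.app_surjective (O a) ha (X.presheaf.map (homOfLE (le_top : t ⁻¹ᵁ O a ≤ ⊤)).op (r * a))
    refine isAffineOpen_of_eq (ha.basicOpen g) (preimage_inj t ?_)
    rw [Scheme.preimage_basicOpen, hg, Scheme.basicOpen_res, hO, hO, Scheme.basicOpen_mul]
    exact (inf_comm _ _).trans (inf_eq_left.2 inf_le_right)
  have hzero : IsAffineOpen (O 0) := by
    refine isAffineOpen_of_eq (isAffineOpen_bot X') (preimage_inj t ?_)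
    rw [hO, Scheme.basicOpen_zero]
    rfl
  have hadd : ∀ a b, IsAffineOpen (O a) → IsAffineOpen (O b) → IsAffineOpen (O (a + b)) := by
    intro a b ha hb
    let e := a + b
    let T := O e
    haveI : IsClosedImmersion (t ∣_ T) := IsZariskiLocalAtTarget.restrict ‹_› T
    haveI : Surjective (t ∣_ T) := IsZariskiLocalAtTarget.restrict ‹_› T
    have hD : IsAffineOpen (t ⁻¹ᵁ T) := isAffineOpen_of_eq ((isAffineOpen_top X).basicOpen e) (hO e).symm
    haveI : IsAffine ((t ⁻¹ᵁ T : X.Opens) : Scheme.{u}) := hD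
    have hunit : IsUnit ((t ⁻¹ᵁ T).ι.appTop e) := by
      have hle : (t ⁻¹ᵁ T).ι ''ᵁ ⊤ ≤ X.basicOpen e := by
        rw [Scheme.Opens.ι_image_top]
        exact le_of_eq (hO e)
      have h1 := (RingedSpace.isUnit_res_basicOpen X.toLocallyRingedSpace.toRingedSpace e).map
        (X.presheaf.map (homOfLE hle).op).hom
      rw [Scheme.Opens.ι_appTop]
      have h2 : X.presheaf.map (homOfLE (le_top : (t ⁻¹ᵁ T).ι ''ᵁ ⊤ ≤ ⊤)).op e =
          X.presheaf.map (homOfLE hle).op (X.presheaf.map (homOfLE (le_top : X.basicOpen e ≤ ⊤)).op e) := by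
        rw [← ConcreteCategory.comp_apply, ← X.presheaf.map_comp]
        rfl
      exact h2 ▸ h1
    obtain ⟨w, hw⟩ := hunit
    have hsum : (t ⁻¹ᵁ T).ι.appTop a * ↑w⁻¹ + (t ⁻¹ᵁ T).ι.appTop b * ↑w⁻¹ = 1 := by
      rw [← add_mul, ← map_add, show (t ⁻¹ᵁ T).ι.appTop (a + b) = ↑w from hw.symm, Units.mul_inv]
    have haff : ∀ a', IsAffineOpen (O a') → IsAffineOpen (T.ι ⁻¹ᵁ O a') := fun a' ha' => by
      refine (Scheme.Opens.ι T).isAffineOpen_iff_of_isOpenImmersion.1 ?_
      rw [Scheme.Hom.image_preimage_eq_opensRange_inf, Scheme.Opens.opensRange_ι]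
      refine isAffineOpen_of_eq (hSmul a' e ha') (preimage_inj t ?_)
      rw [hO, Scheme.basicOpen_mul]
      show _ = t ⁻¹ᵁ T ⊓ t ⁻¹ᵁ O a'
      rw [hO, hO]
    have hpre : ∀ a', (t ∣_ T) ⁻¹ᵁ (T.ι ⁻¹ᵁ O a') =
        ((t ⁻¹ᵁ T : X.Opens) : Scheme.{u}).basicOpen ((t ⁻¹ᵁ T).ι.appTop a' * (↑w⁻¹ : Γ(((t ⁻¹ᵁ T : X.Opens) : Scheme.{u}), ⊤))) := fun a' => by
      rw [Scheme.basicOpen_mul, Scheme.basicOpen_of_isUnit _ (w⁻¹).isUnit, inf_top_eq,
        ← Scheme.preimage_basicOpen_top, ← Scheme.Hom.comp_preimage, morphismRestrict_ι, Scheme.Hom.comp_preimage]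
      exact congrArg ((t ⁻¹ᵁ T).ι ⁻¹ᵁ ·) (hO a')
    exact isAffine_of_two (t ∣_ T) _ _ hsum _ _ (haff a ha) (haff b hb) (hpre a) (hpre b)
  let S : Ideal Γ(X, ⊤) :=
    { carrier := {a | IsAffineOpen (O a)}
      add_mem' := fun {a b} => hadd a b
      zero_mem' := hzero
      smul_mem' := fun r a => hSmul a r }
  have hS : S = ⊤ := by
    by_contra hne
    obtain ⟨m, hm, hSm⟩ := S.exists_le_maximal hne
    obtain ⟨x, hx⟩ : ∃ x, (isAffineOpen_top X).fromSpec (⟨m, hm.isPrime⟩ : PrimeSpectrum _) = x := ⟨_, rfl⟩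
    obtain ⟨_, ⟨W, hW, rfl⟩, hxW, -⟩ :=
      X'.isBasis_affineOpens.exists_subset_of_mem_open (Set.mem_univ (t x)) isOpen_univ
    obtain ⟨a, ha, hxa⟩ := (isAffineOpen_top X).exists_basicOpen_le (V := t ⁻¹ᵁ W) ⟨x, hxW⟩ trivial
    have haS : a ∈ S := by
      obtain ⟨g, hg⟩ := t.app_surjective W hW (X.presheaf.map (homOfLE (le_top : t ⁻¹ᵁ W ≤ ⊤)).op a)
      refine isAffineOpen_of_eq (hW.basicOpen g) (preimage_inj t ?_)
      rw [Scheme.preimage_basicOpen, hg, Scheme.basicOpen_res, hO]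
      exact inf_eq_right.2 ha
    have h : (⟨m, hm.isPrime⟩ : PrimeSpectrum Γ(X, ⊤)) ∈ (isAffineOpen_top X).fromSpec ⁻¹ᵁ X.basicOpen a :=
      show (isAffineOpen_top X).fromSpec _ ∈ X.basicOpen a from hx.symm ▸ hxa
    rw [IsAffineOpen.fromSpec_preimage_basicOpen] at h
    exact h (hSm haS)
  have h1 : IsAffineOpen (O 1) := show (1 : Γ(X, ⊤)) ∈ S from hS ▸ Submodule.mem_top
  have e : O 1 = ⊤ := preimage_inj t (by rw [hO, Scheme.basicOpen_of_isUnit X isUnit_one]; rfl)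
  rw [e] at h1
  exact IsAffine.of_isIso (Scheme.topIso X').inv (h := h1)

end Groth.Agent.ThickAff
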