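import Mathlib.Algebra.Ring.GeomSum
import Mathlib.RingTheory.Ideal.Maps
import Mathlib.RingTheory.Nilpotent.Basic
import Mathlib.Data.Nat.Choose.Sum
import Mathlib.Tactic.Ring

/-!
Splitting nilpotent sections on an overlap: the algebraic heart of "affine thickenings are affine".
-/

set_option autoImplicit false

namespace Groth.Agent.ThickAff

theorem exists_split {RU RV R : Type*} [CommRing RU] [CommRing RV] [CommRing R] (φ : RU →+* R) (ψ : RV →+* R)
    (IU : Ideal RU) (IV : Ideal RV) (IW : Ideal R) (BU : RU) (BV : RV) (hd : IsNilpotent (φ BU - ψ BV))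
    (hU : ∀ z ∈ IW, ∃ m u, u ∈ IU ∧ φ (1 - BU) ^ m * z = φ u)
    (hV : ∀ z ∈ IW, ∃ m v, v ∈ IV ∧ ψ BV ^ m * z = ψ v)
    (z : R) (hz : z ∈ IW) : ∃ u ∈ IU, ∃ v ∈ IV, z = φ u + ψ v := by
  classical
  obtain ⟨N, hN⟩ := hd
  set d := φ BU - ψ BV
  choose L v hvI hv using fun j : ℕ => hV (d ^ j * z) (IW.mul_mem_left _ hz)
  let T : AddSubgroup R := IV.toAddSubgroup.map ψ.toAddMonoidHom
  let L₀ := N + ∑ j ∈ Finset.range N, L j
  have hA : ∀ n, L₀ ≤ n → φ BU ^ n * z ∈ T := by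
    intro n hn
    have e : φ BU = d + ψ BV := (sub_add_cancel _ _).symm
    rw [e, add_pow, Finset.sum_mul]
    refine sum_mem fun j _ => ?_
    rcases lt_or_ge j N with hj | hj
    · have hL : L j ≤ ∑ i ∈ Finset.range N, L i :=
        Finset.single_le_sum (fun i _ => Nat.zero_le _) (Finset.mem_range.2 hj)
      obtain ⟨k, hk⟩ : ∃ k, n - j = L j + k := ⟨n - j - L j, by omega⟩
      refine ⟨BV ^ k * v j * (n.choose j : RV), IV.mul_mem_right _ (IV.mul_mem_left _ (hvI j)), ?_⟩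
      show ψ _ = _
      rw [map_mul, map_mul, map_pow, ← hv, map_natCast, hk, pow_add]
      ring
    · rw [pow_eq_zero_of_le hj hN, zero_mul, zero_mul, zero_mul]
      exact zero_mem T
  let K := L₀ + 1
  let y := φ BU ^ K
  have hy : ∀ i M, z * y ^ (i + 1) * (1 - y) ^ M ∈ T := by
    intro i M
    induction M generalizing i with
    | zero =>
      rw [pow_zero, mul_one, mul_comm]
      show (φ BU ^ K) ^ (i + 1) * z ∈ T
      rw [← pow_mul]
      exact hA _ (by show L₀ ≤ (L₀ + 1) * (i + 1); exact le_trans (Nat.le_succ _) (Nat.le_mul_of_pos_right _ (Nat.succ_pos i)))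
    | succ M ih =>
      rw [show z * y ^ (i + 1) * (1 - y) ^ (M + 1) =
        z * y ^ (i + 1) * (1 - y) ^ M - z * y ^ (i + 1 + 1) * (1 - y) ^ M by ring]
      exact sub_mem (ih i) (ih (i + 1))
  have hrest : ∀ M, z - z * (1 - y) ^ M ∈ T := by
    intro M
    induction M with
    | zero => simp
    | succ M ih =>
      rw [show z - z * (1 - y) ^ (M + 1) = (z - z * (1 - y) ^ M) + z * y ^ (0 + 1) * (1 - y) ^ M by ring]
      exact add_mem ih (hy 0 M)
  obtain ⟨M, u, huI, hu⟩ := hU z hz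
  obtain ⟨v', hv'I, hv'⟩ := hrest M
  refine ⟨u * (∑ i ∈ Finset.range K, BU ^ i) ^ M, IU.mul_mem_right _ huI, v', hv'I, ?_⟩
  have hv'' : ψ v' = z - z * (1 - y) ^ M := hv'
  rw [hv'', map_mul, ← hu, map_pow, map_sum, show (1 - y) = φ (1 - BU) * ∑ i ∈ Finset.range K, φ (BU ^ i) from ?_]
  · ring
  · simp only [map_sub, map_one, map_pow]
    exact (mul_neg_geom_sum (φ BU) K).symm

end Groth.Agent.ThickAff
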